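import Groth.Prelude.Def_ProCons
import Mathlib.AlgebraicGeometry.Morphisms.FinitePresentation

/-!
Preimages of locally constructible sets under morphisms of schemes.
-/

universe u
open CategoryTheory AlgebraicGeometry Topology

namespace Groth.Agent.ProConsPre

lemma isLocallyConstructible_preimage {X Y : Scheme.{u}} (f : X ⟶ Y) {T : Set Y}
    (hT : IsLocallyConstructible T) : IsLocallyConstructible (f ⁻¹' T) := by
  intro x
  obtain ⟨V, hV, hVo, hc⟩ := hT (f x)
  let W : Y.Opens := ⟨V, hVo⟩
  refine ⟨f ⁻¹' V, f.continuous.continuousAt.preimage_mem_nhds hV, hVo.preimage f.continuous,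
    ?_⟩
  have h := (f ∣_ W).isConstructible_preimage hc
  rw [morphismRestrict_base] at h
  exact h

/-- Preimage of a family of locally constructible subsets of an open. -/
lemma preimage_family {X Y : Scheme.{u}} (f : X ⟶ Y) (W : Y.Opens)
    {S : Set (Set ↥(W : Set Y))} (hS : ∀ T ∈ S, IsLocallyConstructible T) :
    ∀ T ∈ Set.preimage (Set.restrictPreimage (W : Set Y) f) '' S,
      IsLocallyConstructible (X := ↥((f : X → Y) ⁻¹' (W : Set Y))) T := by
  rintro _ ⟨T, hT, rfl⟩
  have h := isLocallyConstructible_preimage (f ∣_ W) (hS T hT)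
  rw [morphismRestrict_base] at h
  exact h

end Groth.Agent.ProConsPre
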